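import Groth.Agent.BCCrit13.BC
import Groth.Agent.S14622

/-! Composition and cancellation for cohomology commuting with base change -/

set_option autoImplicit false
set_option backward.isDefEq.respectTransparency.types false
set_option backward.isDefEq.respectTransparency false
set_option linter.style.haveILetI false

universe u

open CategoryTheory CategoryTheory.Limits AlgebraicGeometry Opposite

namespace Groth.Agent.BCCrit13

open Groth.Agent.EtFound Groth.Agent.TriCat

variable {X Y Z : Scheme.{u}} (f : X ⟶ Y) (g : Y ⟶ Z) [IsProper f] [IsProper g]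

theorem cohCommutes_comp (hf : EtPBC.CohCommutesWithBC f) (hg : EtPBC.CohCommutesWithBC g) :
    EtPBC.CohCommutesWithBC (f ≫ g) := by
  refine (cohCommutes_iff (f ≫ g)).2 fun X' Z' F' g' w hpb ℓ hℓ I hI => ?_
  let k : pullback g w ⟶ Y := pullback.fst g w
  let h : pullback g w ⟶ Z' := pullback.snd g w
  have hsq : IsPullback k h g w := IsPullback.of_hasPullback g w
  let f' : X' ⟶ pullback g w := pullback.lift (g' ≫ f) F' ((Category.assoc _ _ _).trans hpb.w)
  have hF : f' ≫ h = F' := pullback.lift_snd _ _ _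
  have hk : g' ≫ f = f' ≫ k := (pullback.lift_fst _ _ _).symm
  have htop : IsPullback g' f' f k := IsPullback.of_bot (hF.symm ▸ hpb) hk hsq
  have h1 := goodSquare_of_cohCommutes hf htop ℓ hℓ I hI
  refine isRightAcyclic_congr (EtCoh.pushCongr hF) ((isRightAcyclic_push_comp_iff f' h h1).2 ?_)
  have h2 := goodSquare_of_cohCommutes hg hsq ℓ hℓ _ (injKilled_push f hI)
  exact isRightAcyclic_of_iso
    (@asIso _ _ _ _ (EtCoh.baseChange0 f k f' g' htop.w I) (ProperBC13.isIso_baseChange0 f k f' g' htop I)) h2

theorem cohCommutes_cancel [Surjective f] (hf : EtPBC.CohCommutesWithBC f)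
    (hgf : EtPBC.CohCommutesWithBC (f ≫ g)) : EtPBC.CohCommutesWithBC g := by
  refine (cohCommutes_iff g).2 fun Y' Z' h k w hpb ℓ hℓ J hJ => ?_
  let k' : pullback f k ⟶ X := pullback.fst f k
  let f' : pullback f k ⟶ Y' := pullback.snd f k
  have htop : IsPullback k' f' f k := IsPullback.of_hasPullback f k
  have hbig : IsPullback k' (f' ≫ h) (f ≫ g) w := htop.paste_vert hpb
  haveI := pull_additive f
  obtain ⟨I, i, hI, hi⟩ := exists_mono_injKilled (killedBy_map (EtCoh.pull f) hJ.1)
  haveI := S14622.result f J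
  haveI := push_preservesFiniteLimits f
  let m : J ⟶ (EtCoh.push f).obj I := (EtCoh.pullPushAdj f).unit.app J ≫ (EtCoh.push f).map i
  haveI : Mono m := mono_comp _ _
  obtain ⟨r, hr⟩ := hJ.2 J hJ.1 (𝟙 J) m (injKilled_push f hI).1 inferInstance
  refine isRightAcyclic_of_retract ((EtCoh.pull k).map m) ((EtCoh.pull k).map r)
    (by rw [← Functor.map_comp, hr, CategoryTheory.Functor.map_id]) ?_
  refine isRightAcyclic_of_iso
    (@asIso _ _ _ _ (EtCoh.baseChange0 f k f' k' htop.w I) (ProperBC13.isIso_baseChange0 f k f' k' htop I)).symm ?_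
  exact (isRightAcyclic_push_comp_iff f' h (goodSquare_of_cohCommutes hf htop ℓ hℓ I hI)).1
    (goodSquare_of_cohCommutes hgf hbig ℓ hℓ I hI)

end Groth.Agent.BCCrit13
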