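import Groth.Agent.BCCrit13.Basic
import Groth.Agent.S6186
import Groth.Agent.S0537
import Groth.Agent.EtLC12.Specialization
import Groth.Agent.EtFound.StalkSet
import Groth.Agent.EtLC12.QcqsAcyclic

/-! Higher direct images of filtered colimits of acyclic sheaves; torsion envelopes -/

set_option autoImplicit false
set_option backward.isDefEq.respectTransparency.types false
set_option backward.isDefEq.respectTransparency false
set_option linter.style.haveILetI false

universe u

open CategoryTheory CategoryTheory.Limits AlgebraicGeometry Opposite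

namespace Groth.Agent.BCCrit13

open Groth.Agent.EtFound Groth.Agent.TriCat

variable {X Y : Scheme.{u}}

/-- vanishing is checked on strict localizations -/
theorem isZero_of_geomPt (G : EtCoh.Ab Y)
    (h : ∀ (y : Y) (R : Type u) [CommRing R] [IsLocalRing R] [Algebra (Y.presheaf.stalk y) R]
      [IsLocalHom (algebraMap (Y.presheaf.stalk y) R)] [Hensel.IsStrictHenselization (Y.presheaf.stalk y) R]
      [IsSepClosed (IsLocalRing.ResidueField R)], IsZero ((EtCoh.stalk (Hens2.geomPt Y y R)).obj G)) :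
    IsZero G := by
  refine (isZero_iff_stalks G).2 fun Ω _ _ ξ => ?_
  let y := ξ.base (default : Spec (CommRingCat.of Ω))
  obtain ⟨R, _, _, _, _, hR⟩ := S0537.result (Y.presheaf.stalk y)
  haveI := hR
  haveI : IsSepClosed (IsLocalRing.ResidueField R) :=
    (Hensel.IsStrictHenselization.isSepClosure (R := Y.presheaf.stalk y) (S := R)).sep_closed
  have hz := AddCommGrpCat.subsingleton_of_isZero (h y R)
  obtain ⟨e⟩ := nonempty_stalk_equiv G ξ (Hens2.geomPt Y y R)
    (EtLC12.Specialization.geomPt_base Y y R default).symm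
  haveI : Subsingleton ((EtCoh.stalk ξ).obj G) := e.subsingleton
  exact AddCommGrpCat.isZero_of_subsingleton _

/-- filtered colimits of acyclic sheaves are acyclic -/
theorem isRightAcyclic_colimit (f : X ⟶ Y) [QuasiCompact f] [QuasiSeparated f] [EtCoh.BCCont f]
    {Λ : Type (u + 1)} [SmallCategory Λ] [IsFiltered Λ] (D : Λ ⥤ EtCoh.Ab X)
    (h : ∀ i, IsRightAcyclic (EtCoh.push f) (D.obj i)) :
    IsRightAcyclic (EtCoh.push f) (colimit D) := by
  intro q hq
  refine isZero_of_geomPt _ fun y R _ _ _ _ _ _ => ?_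
  obtain ⟨e⟩ := S6186.result f y R q
  let p := pullback.fst f (Hens2.specOf Y y R)
  haveI : CompactSpace ↥(pullback f (Hens2.specOf Y y R)) :=
    QuasiCompact.compactSpace_of_compactSpace (pullback.snd f (Hens2.specOf Y y R))
  haveI : QuasiSeparatedSpace ↥(pullback f (Hens2.specOf Y y R)) :=
    quasiSeparatedSpace_of_quasiSeparated (pullback.snd f (Hens2.specOf Y y R))
  haveI : (EtCoh.pull p).IsLeftAdjoint := (EtCoh.pullPushAdj p).isLeftAdjoint
  haveI := EtLC12.QcqsAcyclic.preservesColimitsOfShape_HF (pullback f (Hens2.specOf Y y R)) q Λ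
  have hc := isColimitOfPreserves (EtCoh.pull p ⋙ EtCoh.HF (pullback f (Hens2.specOf Y y R)) q)
    (colimit.isColimit D)
  refine IsZero.of_iso ?_ (e.app (colimit D))
  refine (IsZero.iff_id_eq_zero _).2 (hc.hom_ext fun i => ?_)
  exact (IsZero.of_iso ((EtCoh.stalk _).map_isZero (h i q hq)) (e.app (D.obj i)).symm).eq_of_src _ _

theorem eq_of_ι_nsmul (J : EtCoh.Ab X) {n : ℕ} {A : EtCoh.Ab X} {a b : A ⟶ torsN J n}
    (h : a ≫ kernel.ι (n • 𝟙 J) = b ≫ kernel.ι (n • 𝟙 J)) : a = b :=
  (cancel_mono _).1 h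

/-- inclusions between kernels of multiplications -/
noncomputable def torsIncl (J : EtCoh.Ab X) {n m : ℕ} (h : n ∣ m) : torsN J n ⟶ torsN J m :=
  kernel.lift _ (kernel.ι (n • 𝟙 J)) (by
    obtain ⟨d, rfl⟩ := h
    rw [mul_nsmul, Preadditive.comp_nsmul, kernel.condition, smul_zero])

@[reassoc]
theorem torsIncl_ι (J : EtCoh.Ab X) {n m : ℕ} (h : n ∣ m) :
    torsIncl J h ≫ kernel.ι (m • 𝟙 J) = kernel.ι (n • 𝟙 J) :=
  kernel.lift_ι _ _ _

/-- the index category of the torsion envelope -/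
abbrev Idx : Type (u + 1) := AsSmall.{u + 1} ℕ

/-- the number of an index -/
abbrev idxVal (a : Idx.{u}) : ℕ := AsSmall.down.obj a

/-- the index of a number -/
abbrev idxOf (n : ℕ) : Idx.{u} := AsSmall.up.obj n

/-- the arrow of indices -/
abbrev idxHom {n m : ℕ} (h : n ≤ m) : idxOf.{u} n ⟶ idxOf.{u} m := AsSmall.up.map (homOfLE h)

/-- the diagram of `J[n!]` -/
noncomputable def torsDiag (J : EtCoh.Ab X) : Idx.{u} ⥤ EtCoh.Ab X :=
  AsSmall.down ⋙
    { obj := fun n => torsN J n.factorial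
      map := fun f => torsIncl J (Nat.factorial_dvd_factorial (leOfHom f))
      map_id := fun n => eq_of_ι_nsmul J (by rw [torsIncl_ι, Category.id_comp])
      map_comp := fun f g => eq_of_ι_nsmul J (by rw [torsIncl_ι, Category.assoc, torsIncl_ι, torsIncl_ι]) }

instance isFiltered_idx : IsFiltered Idx.{u} := IsFiltered.of_equivalence AsSmall.equiv

/-- the torsion envelope -/
noncomputable def torsEnv (J : EtCoh.Ab X) : EtCoh.Ab X := colimit (torsDiag J)

theorem torsDiag_map_ι (J : EtCoh.Ab X) {a b : Idx.{u}} (f : a ⟶ b) :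
    (torsDiag J).map f ≫ kernel.ι ((idxVal b).factorial • 𝟙 J) = kernel.ι ((idxVal a).factorial • 𝟙 J) :=
  torsIncl_ι J (Nat.factorial_dvd_factorial (leOfHom (AsSmall.down.map f)))

/-- the map of the torsion envelope to the sheaf -/
noncomputable def torsEnvι (J : EtCoh.Ab X) : torsEnv J ⟶ J :=
  colimit.desc (torsDiag J) (Cocone.mk J
    { app := fun a => kernel.ι ((idxVal a).factorial • 𝟙 J)
      naturality := fun _ _ f => (torsDiag_map_ι J f).trans (Category.comp_id _).symm })

theorem ι_torsEnvι (J : EtCoh.Ab X) (a : Idx.{u}) :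
    colimit.ι (torsDiag J) a ≫ torsEnvι J = kernel.ι ((idxVal a).factorial • 𝟙 J) :=
  colimit.ι_desc _ _

theorem isTorsion_torsEnv (J : EtCoh.Ab X) : EtCoh.IsTorsion (torsEnv J) := by
  refine (isTorsion_iff_stalks _).2 fun Ω _ _ ξ t => ?_
  haveI : (EtCoh.stalk ξ).IsLeftAdjoint := (Scheme.pointSmallEtale ξ).skyscraperSheafAdjunction.isLeftAdjoint
  obtain ⟨a, b, hb⟩ := Types.jointly_surjective _
    (isColimitOfPreserves (EtCoh.stalk ξ ⋙ forget AddCommGrpCat.{u + 1}) (colimit.isColimit (torsDiag J))) t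
  let b' : (EtCoh.stalk ξ).obj (torsN J (idxVal a).factorial) := b
  obtain ⟨m, hm, h⟩ := (isTorsion_iff_stalks _).1
    (isTorsion_torsN J (Nat.factorial_pos (idxVal a))) Ω ξ b'
  refine ⟨m, hm, ?_⟩
  rw [← hb]
  exact (map_nsmul ((EtCoh.stalk ξ).map (colimit.ι (torsDiag J) a)).hom m b').symm.trans
    ((congrArg ((EtCoh.stalk ξ).map (colimit.ι (torsDiag J) a)).hom h).trans (map_zero _))

/-- every torsion sheaf embeds into the torsion envelope of an injective -/
theorem exists_torsEnv_lift {F J : EtCoh.Ab X} (hF : EtCoh.IsTorsion F) (a : F ⟶ J) :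
    ∃ φ : F ⟶ torsEnv J, φ ≫ torsEnvι J = a := by
  obtain ⟨hc⟩ := nonempty_isColimit_stageCocone hF
  have hn : ∀ j : TorsStage F, ∃ n : ℕ, EtCoh.KilledBy n.factorial ((stageFunctor F).obj j) := fun j => by
    obtain ⟨n, hn, h⟩ := exists_nsmul_stage j
    obtain ⟨d, hd⟩ := Nat.dvd_factorial hn le_rfl
    exact ⟨n, (killedBy_iff_nsmul _ _).2 (by rw [hd, mul_nsmul, h, smul_zero])⟩
  choose n hn using hn
  let leg : ∀ j, (stageFunctor F).obj j ⟶ torsEnv J := fun j =>
    toTorsN (hn j) ((stageCocone F).ι.app j ≫ a) ≫ colimit.ι (torsDiag J) (idxOf (n j))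
  have hleg : ∀ {j k : TorsStage F} (f : j ⟶ k), (stageFunctor F).map f ≫ leg k = leg j := fun {j k} f => by
    let M := idxOf.{u} (max (n j) (n k))
    let fj : idxOf.{u} (n j) ⟶ M := idxHom (le_max_left _ _)
    let fk : idxOf.{u} (n k) ⟶ M := idxHom (le_max_right _ _)
    simp only [leg]
    rw [← colimit.w (torsDiag J) fj, ← colimit.w (torsDiag J) fk]
    simp only [← Category.assoc]
    refine congrArg (· ≫ colimit.ι (torsDiag J) M) (eq_of_ι_nsmul J (n := (idxVal M).factorial) ?_)
    simp only [Category.assoc]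
    refine (congrArg (fun r => (stageFunctor F).map f ≫ toTorsN (hn k) _ ≫ r) (torsDiag_map_ι J fk)).trans
      (Eq.trans ?_ (congrArg (fun r => toTorsN (hn j) _ ≫ r) (torsDiag_map_ι J fj)).symm)
    refine (congrArg ((stageFunctor F).map f ≫ ·) (toTorsN_ι (hn k) _)).trans
      (Eq.trans ?_ (toTorsN_ι (hn j) _).symm)
    exact (Category.assoc _ _ _).symm.trans (congrArg (· ≫ a)
      (((stageCocone F).w f)))
  let t : Cocone (stageFunctor F) := Cocone.mk (torsEnv J)
    { app := leg, naturality := fun _ _ f => (hleg f).trans (Category.comp_id _).symm }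
  refine ⟨hc.desc t, hc.hom_ext fun j => ?_⟩
  rw [hc.fac_assoc]
  refine (Category.assoc _ _ _).trans ?_
  refine (congrArg (_ ≫ ·) (ι_torsEnvι J _)).trans ?_
  exact toTorsN_ι (hn j) _

theorem exists_mono_torsEnv {F : EtCoh.Ab X} (hF : EtCoh.IsTorsion F) :
    ∃ φ : F ⟶ torsEnv (Injective.under F), Mono φ := by
  obtain ⟨φ, hφ⟩ := exists_torsEnv_lift hF (Injective.ι F)
  exact ⟨φ, mono_of_mono_fac hφ⟩

end Groth.Agent.BCCrit13
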