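import Groth.Agent.BCCrit13.Colim
import Groth.Agent.ProperBC13.Main
import Groth.Agent.SiteBase.Rpush

/-! The criterion for cohomology to commute with base change; acyclicity and composition -/

set_option autoImplicit false
set_option backward.isDefEq.respectTransparency.types false
set_option backward.isDefEq.respectTransparency false
set_option linter.style.haveILetI false

universe u

open CategoryTheory CategoryTheory.Limits AlgebraicGeometry Opposite

namespace Groth.Agent.BCCrit13

open Groth.Agent.EtFound Groth.Agent.TriCat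

section Composite

variable {A B D : Type*} [Category* A] [Category* B] [Category* D] [Abelian A] [Abelian B] [Abelian D]
  [EnoughInjectives A] [EnoughInjectives B] (F : A ⥤ B) (G : B ⥤ D) [F.Additive] [G.Additive]
  [PreservesFiniteLimits F] [PreservesFiniteLimits G] [F.PreservesInjectiveObjects]

theorem isZero_rightDerived_comp_iff (q : ℕ) : ∀ {X : A}, IsRightAcyclic F X →
    (IsZero (((F ⋙ G).rightDerived (q + 1)).obj X) ↔ IsZero ((G.rightDerived (q + 1)).obj (F.obj X))) := by
  haveI : PreservesFiniteLimits (F ⋙ G) := comp_preservesFiniteLimits F G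
  induction q with
  | zero =>
    intro X hX
    let S := (Classical.arbitrary (InjectivePresentation X)).shortComplex
    have hS : S.ShortExact := InjectivePresentation.shortExact_shortComplex _
    haveI : Injective S.X₂ := (Classical.arbitrary (InjectivePresentation X)).injective
    have hFS : (S.map F).ShortExact := map_shortExact_of_isZero F hS (hX 1 one_pos)
    haveI : Injective (S.map F).X₂ := inferInstanceAs (Injective (F.obj S.X₂))
    refine (epi_map_g_iff (F ⋙ G) hS).symm.trans ?_
    exact epi_map_g_iff G hFS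
  | succ q ih =>
    intro X hX
    let S := (Classical.arbitrary (InjectivePresentation X)).shortComplex
    have hS : S.ShortExact := InjectivePresentation.shortExact_shortComplex _
    haveI hI : Injective S.X₂ := (Classical.arbitrary (InjectivePresentation X)).injective
    have hFS : (S.map F).ShortExact := map_shortExact_of_isZero F hS (hX 1 one_pos)
    haveI : Injective (S.map F).X₂ := inferInstanceAs (Injective (F.obj S.X₂))
    have hQ : IsRightAcyclic F S.X₃ := acyclic₃ hS hX (isRightAcyclic_of_injective S.X₂)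
    have h3 := ih hQ
    constructor
    · intro h
      exact isZero_rightDerived_succ_left G hFS (q + 1) (h3.1 (isZero_rightDerived_right (F ⋙ G) hS q h))
    · intro h
      exact isZero_rightDerived_succ_left (F ⋙ G) hS (q + 1) (h3.2 (isZero_rightDerived_right G hFS q h))

end Composite

theorem isRightAcyclic_congr {A B : Type*} [Category* A] [Category* B] [Abelian A] [Abelian B]
    [EnoughInjectives A] {F G : A ⥤ B} [F.Additive] [G.Additive] (e : F ≅ G) {X : A}
    (h : IsRightAcyclic F X) : IsRightAcyclic G X := fun q hq =>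
  (h q hq).of_iso ((SiteBase.rightDerivedCongr e q).app X).symm

theorem isRightAcyclic_of_iso {A B : Type*} [Category* A] [Category* B] [Abelian A] [Abelian B]
    [EnoughInjectives A] {F : A ⥤ B} [F.Additive] {X Y : A} (e : X ≅ Y) (h : IsRightAcyclic F X) :
    IsRightAcyclic F Y := fun q hq =>
  (h q hq).of_iso ((F.rightDerived q).mapIso e.symm)

variable {X Y Z X' Y' : Scheme.{u}}

theorem preservesInjectiveObjects_push (f : X ⟶ Y) [EtCoh.BCCont f] :
    (EtCoh.push f).PreservesInjectiveObjects := by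
  haveI := pull_preservesFiniteLimits f
  exact ⟨fun {I} hI => (EtCoh.pullPushAdj f).map_injective I hI⟩

/-- acyclicity for a composite -/
theorem isRightAcyclic_push_comp_iff (f : X ⟶ Y) (g : Y ⟶ Z) {F : EtCoh.Ab X}
    (hF : IsRightAcyclic (EtCoh.push f) F) :
    IsRightAcyclic (EtCoh.push (f ≫ g)) F ↔ IsRightAcyclic (EtCoh.push g) ((EtCoh.push f).obj F) := by
  haveI := push_preservesFiniteLimits f
  haveI := push_preservesFiniteLimits g
  haveI := preservesInjectiveObjects_push f
  constructor
  · intro h q hq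
    obtain ⟨q, rfl⟩ := Nat.exists_eq_succ_of_ne_zero hq.ne'
    exact (isZero_rightDerived_comp_iff (EtCoh.push f) (EtCoh.push g) q hF).1
      (isRightAcyclic_congr (EtCoh.pushComp g f).symm h (q + 1) q.succ_pos)
  · intro h
    refine isRightAcyclic_congr (EtCoh.pushComp g f) fun q hq => ?_
    obtain ⟨q, rfl⟩ := Nat.exists_eq_succ_of_ne_zero hq.ne'
    exact (isZero_rightDerived_comp_iff (EtCoh.push f) (EtCoh.push g) q hF).2 (h (q + 1) q.succ_pos)

/-- naturality of the base change map -/
theorem baseChange0_naturality (f : X ⟶ Y) (g : Y' ⟶ Y) (f' : X' ⟶ Y') (g' : X' ⟶ X) (w : g' ≫ f = f' ≫ g)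
    {F G : EtCoh.Ab X} (a : F ⟶ G) :
    (EtCoh.pull g).map ((EtCoh.push f).map a) ≫ EtCoh.baseChange0 f g f' g' w G =
      EtCoh.baseChange0 f g f' g' w F ≫ (EtCoh.push f').map ((EtCoh.pull g').map a) := by
  unfold EtCoh.baseChange0
  rw [← Adjunction.homEquiv_naturality_left_symm, ← Adjunction.homEquiv_naturality_right_symm]
  congr 1
  rw [← Category.assoc, ← Functor.map_comp]
  refine (congrArg (fun r => (EtCoh.push f).map r ≫ _) ((EtCoh.pullPushAdj g').unit.naturality a)).trans ?_
  rw [Functor.map_comp, Category.assoc]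
  refine Eq.trans ?_ (Category.assoc _ _ _).symm
  congr 1
  simp only [Category.assoc]
  refine ((EtCoh.pushComp f g').hom.naturality_assoc _ _).trans ?_
  congr 1
  refine ((EtCoh.pushCongr w).hom.naturality_assoc _ _).trans ?_
  congr 1
  exact (EtCoh.pushComp g f').inv.naturality _

/-- the cokernel of a base changed map -/
theorem nonempty_iso_of_cokernels {A B : Type*} [Category* A] [Category* B] [Abelian A] [Abelian B] (G : A ⥤ B)
    [G.Additive] [PreservesFiniteColimits G] {S : ShortComplex A} (hS : S.Exact) [Epi S.g] {T : ShortComplex B}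
    (hT : T.Exact) [Epi T.g] (w₁ : G.obj S.X₁ ≅ T.X₁) (w₂ : G.obj S.X₂ ≅ T.X₂)
    (hw : G.map S.f ≫ w₂.hom = w₁.hom ≫ T.f) : Nonempty (G.obj S.X₃ ≅ T.X₃) := by
  have h1 : IsColimit (CokernelCofork.ofπ S.g S.zero) := hS.gIsCokernel
  have h2 : IsColimit (CokernelCofork.ofπ (G.map S.g) (by rw [← G.map_comp, S.zero, G.map_zero]) :
      CokernelCofork (G.map S.f)) := CokernelCofork.mapIsColimit _ h1 G
  exact ⟨IsColimit.coconePointUniqueUpToIso h2 (cokernelIsCokernel _) ≪≫ cokernel.mapIso _ _ w₁ w₂ hw ≪≫
    IsColimit.coconePointUniqueUpToIso (cokernelIsCokernel _) hT.gIsCokernel⟩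

section Criterion

variable (f : X ⟶ Y) [IsProper f]

/-- the criterion of a single square -/
def GoodSquare (f' : X' ⟶ Y') (g' : X' ⟶ X) : Prop :=
  ∀ (ℓ : ℕ), ℓ.Prime → ∀ (I : EtCoh.Ab X), InjKilled ℓ I →
    IsRightAcyclic (EtCoh.push f') ((EtCoh.pull g').obj I)

variable {f}

theorem isRightAcyclic_pull_torsN {f' : X' ⟶ Y'} {g' : X' ⟶ X} (h : GoodSquare (X := X) f' g')
    (J : EtCoh.Ab X) [Injective J] : ∀ n : ℕ, 0 < n →
      IsRightAcyclic (EtCoh.push f') ((EtCoh.pull g').obj (torsN J n)) := by
  intro n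
  induction n using Nat.strong_induction_on with
  | _ n ih =>
    intro hn
    haveI := pull_additive g'
    haveI := push_preservesFiniteLimits f'
    by_cases h1 : n = 1
    · subst h1
      have h0 : IsZero (torsN J 1) := by
        rw [IsZero.iff_id_eq_zero]
        simpa using torsN_nsmul J 1
      exact fun q _ => ((EtCoh.push f').rightDerived q).map_isZero ((EtCoh.pull g').map_isZero h0)
    obtain ⟨p, hp, m, rfl⟩ := Nat.exists_prime_and_dvd h1
    have hm : 0 < m := pos_of_mul_pos_right hn (Nat.zero_le _)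
    let b : torsN J (p * m) ⟶ torsN J m := kernel.lift _ (p • kernel.ι ((p * m) • 𝟙 J)) (by
      have h := kernel.condition ((p * m) • 𝟙 J)
      rw [Preadditive.comp_nsmul, Category.comp_id] at h
      rw [Preadditive.comp_nsmul, Category.comp_id, ← mul_nsmul, h])
    let a := torsIncl J (Dvd.intro m rfl : p ∣ p * m)
    have hb : b ≫ kernel.ι (m • 𝟙 J) = p • kernel.ι ((p * m) • 𝟙 J) := kernel.lift_ι _ _ _
    have hab : a ≫ b = 0 := eq_of_ι_nsmul J (by
      rw [Category.assoc, hb, Preadditive.comp_nsmul, torsIncl_ι, zero_comp]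
      have h := kernel.condition (p • 𝟙 J)
      rwa [Preadditive.comp_nsmul, Category.comp_id] at h)
    let S := ShortComplex.mk a b hab
    haveI : Mono a := mono_of_mono_fac (torsIncl_ι J _)
    have hS : S.ShortExact :=
      { exact := ShortComplex.exact_of_f_is_kernel S (KernelFork.IsLimit.ofι' a hab (fun {W} k hk => by
          have hk' : k ≫ kernel.ι ((p * m) • 𝟙 J) ≫ (p • 𝟙 J) = 0 := by
            rw [Preadditive.comp_nsmul, Category.comp_id]
            have := congrArg (· ≫ kernel.ι (m • 𝟙 J)) hk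
            simp only [Category.assoc, zero_comp] at this
            rw [← this]
            exact congrArg (k ≫ ·) hb.symm
          refine ⟨kernel.lift _ (k ≫ kernel.ι ((p * m) • 𝟙 J)) ((Category.assoc _ _ _).trans hk'),
            eq_of_ι_nsmul J ?_⟩
          rw [Category.assoc, torsIncl_ι, kernel.lift_ι]))
        mono_f := inferInstanceAs (Mono a)
        epi_g := by
          haveI := epi_nsmul_injective J hp.pos
          refine (epi_iff_surjective_up_to_refinements b).2 fun W y => ?_
          obtain ⟨W', π, hπ, x, hx⟩ := surjective_up_to_refinements_of_epi (p • 𝟙 J) (y ≫ kernel.ι (m • 𝟙 J))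
          rw [Preadditive.comp_nsmul, Category.comp_id] at hx
          have hym : m • (y ≫ kernel.ι (m • 𝟙 J)) = 0 := by
            have h := kernel.condition (m • 𝟙 J)
            rw [Preadditive.comp_nsmul, Category.comp_id] at h
            rw [← Preadditive.comp_nsmul, h, comp_zero]
          refine ⟨W', π, hπ, kernel.lift _ x ?_, eq_of_ι_nsmul J ?_⟩
          · rw [Preadditive.comp_nsmul, Category.comp_id, mul_nsmul, ← hx, ← Preadditive.comp_nsmul, hym,
              comp_zero]
          · rw [Category.assoc, Category.assoc, hb, Preadditive.comp_nsmul, kernel.lift_ι]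
            exact hx }
    haveI := pull_preservesFiniteLimits g'
    haveI := pull_preservesFiniteColimits g'
    exact acyclic₂ (hS.map_of_exact (EtCoh.pull g')) (h p hp _ (injKilled_torsN J p))
      (ih m (lt_mul_left hm hp.one_lt) hm)

theorem isRightAcyclic_pull_torsEnv {f' : X' ⟶ Y'} [QuasiCompact f'] [QuasiSeparated f'] {g' : X' ⟶ X}
    (h : GoodSquare (X := X) f' g') (J : EtCoh.Ab X) [Injective J] :
    IsRightAcyclic (EtCoh.push f') ((EtCoh.pull g').obj (torsEnv J)) := by
  haveI : (EtCoh.pull g').IsLeftAdjoint := (EtCoh.pullPushAdj g').isLeftAdjoint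
  refine isRightAcyclic_of_iso (preservesColimitIso (EtCoh.pull g') (torsDiag J)).symm
    (isRightAcyclic_colimit f' (torsDiag J ⋙ EtCoh.pull g') fun i => ?_)
  exact isRightAcyclic_pull_torsN h J _ (Nat.factorial_pos _)

theorem nonempty_baseChange_iso {f' : X' ⟶ Y'} {g' : X' ⟶ X} {g : Y' ⟶ Y} (hpb : IsPullback g' f' f g)
    (h : GoodSquare (X := X) f' g') (q : ℕ) : ∀ F : EtCoh.Ab X, EtCoh.IsTorsion F →
      Nonempty ((EtCoh.pull g).obj ((EtCoh.Rpush f q).obj F) ≅
        (EtCoh.Rpush f' q).obj ((EtCoh.pull g').obj F)) := by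
  haveI : IsProper f' := MorphismProperty.of_isPullback hpb ‹IsProper f›
  haveI := push_preservesFiniteLimits f
  haveI := push_preservesFiniteLimits f'
  haveI := pull_preservesFiniteLimits g'
  haveI := pull_preservesFiniteColimits g'
  haveI := pull_preservesFiniteColimits g
  haveI := pull_additive g
  haveI := pull_additive g'
  let bc0 : ∀ F : EtCoh.Ab X, (EtCoh.pull g).obj ((EtCoh.push f).obj F) ≅
      (EtCoh.push f').obj ((EtCoh.pull g').obj F) := fun F =>
    @asIso _ _ _ _ (EtCoh.baseChange0 f g f' g' hpb.w F) (ProperBC13.isIso_baseChange0 f g f' g' hpb F)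
  let bcR : ∀ F : EtCoh.Ab X, (EtCoh.pull g).obj (((EtCoh.push f).rightDerived 0).obj F) ≅
      ((EtCoh.push f').rightDerived 0).obj ((EtCoh.pull g').obj F) := fun F =>
    (EtCoh.pull g).mapIso ((EtCoh.push f).rightDerivedZeroIsoSelf.app F) ≪≫ bc0 F ≪≫
      ((EtCoh.push f').rightDerivedZeroIsoSelf.app _).symm
  let := HasDerivedCategory.standard (EtCoh.Ab X)
  let := HasDerivedCategory.standard (EtCoh.Ab X')
  let := HasDerivedCategory.standard (EtCoh.Ab Y)
  let := HasDerivedCategory.standard (EtCoh.Ab Y')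
  induction q with
  | zero => exact fun F _ => ⟨bcR F⟩
  | succ q ih =>
    intro F hF
    obtain ⟨φ, hφ⟩ := exists_mono_torsEnv hF
    let S : ShortComplex (EtCoh.Ab X) := ShortComplex.mk φ (cokernel.π φ) (cokernel.condition φ)
    have hS : S.ShortExact := { exact := ShortComplex.exact_of_g_is_cokernel _ (cokernelIsCokernel φ) }
    have hQ : EtCoh.IsTorsion S.X₃ := isTorsion_of_epi (cokernel.π φ) (isTorsion_torsEnv _)
    have hS' := hS.map_of_exact (EtCoh.pull g')
    obtain ⟨δ₁, w₁, w₂, w₃, -, e₁, f₁⟩ := exists_rightDerived_ses (EtCoh.push f) hS q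
    obtain ⟨δ₂, v₁, v₂, v₃, -, e₂, f₂⟩ := exists_rightDerived_ses (EtCoh.push f') hS' q
    have hK : IsRightAcyclic (EtCoh.push f) (torsEnv (Injective.under F)) :=
      isRightAcyclic_colimit f _ fun i => isRightAcyclic_torsN f _ (Nat.factorial_pos _)
    have hK' : IsRightAcyclic (EtCoh.push f') ((EtCoh.pull g').obj S.X₂) :=
      isRightAcyclic_pull_torsEnv h (Injective.under F)
    haveI : Epi δ₁ := f₁.epi_f ((hK (q + 1) q.succ_pos).eq_of_tgt _ _)
    haveI : Epi δ₂ := f₂.epi_f ((hK' (q + 1) q.succ_pos).eq_of_tgt _ _)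
    cases q with
    | zero =>
      refine nonempty_iso_of_cokernels (EtCoh.pull g) e₁ e₂ (bcR S.X₂) (bcR S.X₃) ?_
      show (EtCoh.pull g).map (((EtCoh.push f).rightDerived 0).map S.g) ≫ (bcR S.X₃).hom =
        (bcR S.X₂).hom ≫ ((EtCoh.push f').rightDerived 0).map ((EtCoh.pull g').map S.g)
      simp only [bcR, bc0, Iso.trans_hom, Functor.mapIso_hom, Iso.app_hom, Iso.symm_hom, Iso.app_inv,
        asIso_hom, Category.assoc]
      rw [← Functor.map_comp_assoc, (EtCoh.push f).rightDerivedZeroIsoSelf.hom.naturality, Functor.map_comp_assoc,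
        reassoc_of% (baseChange0_naturality f g f' g' hpb.w S.g)]
      refine congrArg (fun r => _ ≫ _ ≫ r) ?_
      exact (EtCoh.push f').rightDerivedZeroIsoSelf.inv.naturality _
    | succ p =>
      haveI : Mono δ₁ := e₁.mono_g ((hK (p + 1) p.succ_pos).eq_of_src _ _)
      haveI : Mono δ₂ := e₂.mono_g ((hK' (p + 1) p.succ_pos).eq_of_src _ _)
      haveI : IsIso δ₁ := isIso_of_mono_of_epi δ₁
      haveI : IsIso δ₂ := isIso_of_mono_of_epi δ₂
      exact ⟨(EtCoh.pull g).mapIso (asIso δ₁).symm ≪≫ (ih S.X₃ hQ).some ≪≫ asIso δ₂⟩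

omit [IsProper f] in
theorem goodSquare_of_cohCommutes (hf : EtPBC.CohCommutesWithBC f) {f' : X' ⟶ Y'} {g' : X' ⟶ X} {g : Y' ⟶ Y}
    (hpb : IsPullback g' f' f g) : GoodSquare (X := X) f' g' := by
  intro ℓ hℓ I hI q hq
  haveI := pull_preservesFiniteColimits g
  haveI := pull_additive g
  obtain ⟨e⟩ := hf f' g' g hpb I (EtTrace.isTorsion_of_nsmul_id hℓ.pos ((killedBy_iff_nsmul _ _).1 hI.1)) q
  exact IsZero.of_iso ((EtCoh.pull g).map_isZero (isRightAcyclic_of_injKilled f hℓ.pos hI q hq)) e.symm

end Criterion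

theorem cohCommutes_iff (f : X ⟶ Y) [IsProper f] :
    EtPBC.CohCommutesWithBC f ↔ ∀ ⦃X' Y' : Scheme.{u}⦄ (f' : X' ⟶ Y') (g' : X' ⟶ X) (g : Y' ⟶ Y),
      IsPullback g' f' f g → GoodSquare (X := X) f' g' :=
  ⟨fun hf _ _ _ _ _ hpb => goodSquare_of_cohCommutes hf hpb,
    fun h _ _ f' g' g _ _ _ hpb F hF q => nonempty_baseChange_iso hpb (h f' g' g hpb) q F hF⟩

end Groth.Agent.BCCrit13
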