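import Groth.Agent.EtFound.FreeMono
import Groth.Agent.EtFound.EdgeVanish
import Groth.Agent.EtFound.PullStalk
import Groth.Agent.EtFound.PushExact
import Groth.Agent.EtTrace.CohDim
import Groth.Agent.TriCat.AcyclicObj
import Groth.Agent.S8525

/-! Sheaves killed by `n`, kernels of multiplication, and their acyclicity for direct images -/

set_option autoImplicit false
set_option backward.isDefEq.respectTransparency.types false
set_option backward.isDefEq.respectTransparency false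
set_option linter.style.haveILetI false

universe u

open CategoryTheory CategoryTheory.Limits AlgebraicGeometry Opposite

namespace Groth.Agent.BCCrit13

open Groth.Agent.EtFound Groth.Agent.TriCat

variable {X Y : Scheme.{u}}

theorem primesIn_univ_iff {m : ℕ} : EtAcyc.PrimesIn Set.univ m ↔ 0 < m :=
  ⟨fun h => h.1, fun h => ⟨h, fun _ _ _ => Set.mem_univ _⟩⟩

theorem isLTorsion_univ_iff (F : EtCoh.Ab X) : EtAcyc.IsLTorsion Set.univ F ↔ EtCoh.IsTorsion F := by
  constructor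
  · intro h U s x
    obtain ⟨V, g, m, hv, hm, h0⟩ := h U s x
    exact ⟨V, g, hv, isOfFinAddOrder_iff_nsmul_eq_zero.2 ⟨m, primesIn_univ_iff.1 hm, h0⟩⟩
  · intro h U s x
    obtain ⟨V, g, hv, hf⟩ := h U s x
    obtain ⟨m, hm, h0⟩ := isOfFinAddOrder_iff_nsmul_eq_zero.1 hf
    exact ⟨V, g, m, hv, primesIn_univ_iff.2 hm, h0⟩

/-- torsion sheaves are those with torsion stalks -/
theorem isTorsion_iff_stalks (F : EtCoh.Ab X) :
    EtCoh.IsTorsion F ↔ ∀ (Ω : Type u) [Field Ω] [IsSepClosed Ω] (ξ : Spec (CommRingCat.of Ω) ⟶ X)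
      (t : (EtCoh.stalk ξ).obj F), ∃ m : ℕ, 0 < m ∧ m • t = 0 := by
  rw [← isLTorsion_univ_iff, S8525.result]
  simp only [primesIn_univ_iff]

/-- quotients of torsion sheaves are torsion -/
theorem isTorsion_of_epi {F G : EtCoh.Ab X} (a : F ⟶ G) [Epi a] (hF : EtCoh.IsTorsion F) :
    EtCoh.IsTorsion G := by
  refine (isTorsion_iff_stalks G).2 fun Ω _ _ ξ t => ?_
  obtain ⟨s, rfl⟩ := (epi_iff_stalks a).1 inferInstance Ω ξ t
  obtain ⟨m, hm, h⟩ := (isTorsion_iff_stalks F).1 hF Ω ξ s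
  exact ⟨m, hm, (map_nsmul ((EtCoh.stalk ξ).map a).hom m s).symm.trans
    ((congrArg ((EtCoh.stalk ξ).map a).hom h).trans (map_zero _))⟩

theorem killedBy_map {C : Scheme.{u}} (G : EtCoh.Ab X ⥤ EtCoh.Ab C) [G.Additive] {n : ℕ} {F : EtCoh.Ab X}
    (h : EtCoh.KilledBy n F) : EtCoh.KilledBy n (G.obj F) := by
  rw [killedBy_iff_nsmul] at h ⊢
  rw [← G.map_id F, ← Functor.map_nsmul, h, G.map_zero]

theorem pull_additive (f : X ⟶ Y) [EtCoh.BCCont f] : (EtCoh.pull f).Additive := by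
  haveI : (EtCoh.pull f).IsLeftAdjoint := (EtCoh.pullPushAdj f).isLeftAdjoint
  haveI := preservesBinaryBiproducts_of_preservesBinaryCoproducts (EtCoh.pull f)
  exact Functor.additive_of_preservesBinaryBiproducts _

theorem pull_preservesFiniteColimits (f : X ⟶ Y) [EtCoh.BCCont f] :
    PreservesFiniteColimits (EtCoh.pull f) := by
  haveI : (EtCoh.pull f).IsLeftAdjoint := (EtCoh.pullPushAdj f).isLeftAdjoint
  infer_instance

/-- the kernel of multiplication by `n` -/
noncomputable abbrev torsN (J : EtCoh.Ab X) (n : ℕ) : EtCoh.Ab X := kernel (n • 𝟙 J)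

theorem torsN_nsmul (J : EtCoh.Ab X) (n : ℕ) : n • 𝟙 (torsN J n) = 0 := by
  refine (cancel_mono (kernel.ι (n • 𝟙 J))).1 ?_
  rw [zero_comp, Preadditive.nsmul_comp, Category.id_comp]
  have h := kernel.condition (n • 𝟙 J)
  rwa [Preadditive.comp_nsmul, Category.comp_id] at h

theorem killedBy_torsN (J : EtCoh.Ab X) (n : ℕ) : EtCoh.KilledBy n (torsN J n) :=
  (killedBy_iff_nsmul _ _).2 (torsN_nsmul J n)

theorem isTorsion_torsN (J : EtCoh.Ab X) {n : ℕ} (hn : 0 < n) : EtCoh.IsTorsion (torsN J n) :=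
  EtTrace.isTorsion_of_nsmul_id hn (torsN_nsmul J n)

/-- a morphism out of a sheaf killed by `n` factors through `torsN` -/
noncomputable def toTorsN {F J : EtCoh.Ab X} {n : ℕ} (h : EtCoh.KilledBy n F) (a : F ⟶ J) : F ⟶ torsN J n :=
  kernel.lift _ a (by
    have h' := (killedBy_iff_nsmul n F).1 h
    rw [Preadditive.comp_nsmul, Category.comp_id, ← Category.id_comp a, ← Preadditive.nsmul_comp, h', zero_comp])

@[reassoc]
theorem toTorsN_ι {F J : EtCoh.Ab X} {n : ℕ} (h : EtCoh.KilledBy n F) (a : F ⟶ J) :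
    toTorsN h a ≫ kernel.ι (n • 𝟙 J) = a :=
  kernel.lift_ι _ _ _

/-- injectivity among sheaves killed by `ℓ` -/
def InjKilled (ℓ : ℕ) (I : EtCoh.Ab X) : Prop :=
  EtCoh.KilledBy ℓ I ∧
    ∀ (G : EtCoh.Ab X), EtCoh.KilledBy ℓ G → ∀ (a : G ⟶ I) {G' : EtCoh.Ab X} (m : G ⟶ G'),
      EtCoh.KilledBy ℓ G' → Mono m → ∃ b : G' ⟶ I, m ≫ b = a

theorem injKilled_torsN (J : EtCoh.Ab X) [Injective J] (n : ℕ) : InjKilled n (torsN J n) := by
  refine ⟨killedBy_torsN J n, fun G _ a G' m hG' _ => ⟨toTorsN hG' (Injective.factorThru (a ≫ kernel.ι _) m), ?_⟩⟩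
  refine (cancel_mono (kernel.ι (n • 𝟙 J))).1 ?_
  rw [Category.assoc, toTorsN_ι, Injective.comp_factorThru]

theorem exists_mono_injKilled {n : ℕ} {F : EtCoh.Ab X} (h : EtCoh.KilledBy n F) :
    ∃ (I : EtCoh.Ab X) (i : F ⟶ I), InjKilled n I ∧ Mono i := by
  refine ⟨_, toTorsN h (Injective.ι F), injKilled_torsN (Injective.under F) n, ?_⟩
  exact mono_of_mono_fac (toTorsN_ι h (Injective.ι F))

theorem injKilled_push (f : X ⟶ Y) [EtCoh.BCCont f] {n : ℕ} {I : EtCoh.Ab X} (hI : InjKilled n I) :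
    InjKilled n ((EtCoh.push f).obj I) := by
  refine ⟨killedBy_map _ hI.1, fun G hG a G' m hG' _ => ?_⟩
  haveI := pull_preservesFiniteLimits f
  haveI := pull_additive f
  obtain ⟨b, hb⟩ := hI.2 _ (killedBy_map (EtCoh.pull f) hG) (((EtCoh.pullPushAdj f).homEquiv _ _).symm a)
    ((EtCoh.pull f).map m) (killedBy_map (EtCoh.pull f) hG') inferInstance
  refine ⟨(EtCoh.pullPushAdj f).homEquiv _ _ b, ?_⟩
  rw [← Adjunction.homEquiv_naturality_left, hb, Equiv.apply_symm_apply]

/-- sections of injective sheaves are divisible -/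
theorem surjective_nsmul_injective (J : EtCoh.Ab X) [Injective J] {n : ℕ} (hn : 0 < n) (U : X.Etale) :
    Function.Surjective ((n • 𝟙 J).hom.app (op U)) := by
  intro s
  obtain ⟨ψ, rfl⟩ := exists_free_hom (W := U) (G := J) s
  haveI := mono_nsmul_freeOn U hn
  refine ⟨freeVal (Injective.factorThru ψ (n • 𝟙 (freeOn U))), ?_⟩
  refine (nsmul_hom_app (𝟙 J) n U _).trans ?_
  refine (freeVal_nsmul _ n).symm.trans (congrArg freeVal ?_)
  refine Eq.trans ?_ (Injective.comp_factorThru ψ (n • 𝟙 (freeOn U)))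
  rw [Preadditive.nsmul_comp, Category.id_comp]

theorem epi_of_surjective {F G : EtCoh.Ab X} (a : F ⟶ G)
    (h : ∀ U : X.Etale, Function.Surjective (a.hom.app (op U))) : Epi a := by
  refine (Sheaf.isLocallySurjective_iff_epi' AddCommGrpCat.{u + 1} a).1 ⟨fun {U} s => ?_⟩
  obtain ⟨t, rfl⟩ := h U s
  exact GrothendieckTopology.superset_covering _ (fun V i _ => ⟨F.obj.map i.op t,
    ConcreteCategory.congr_hom (a.hom.naturality i.op) t⟩) (X.smallEtaleTopology.top_mem U)

theorem epi_nsmul_injective (J : EtCoh.Ab X) [Injective J] {n : ℕ} (hn : 0 < n) : Epi (n • 𝟙 J) :=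
  epi_of_surjective _ (surjective_nsmul_injective J hn)

theorem epi_push_nsmul_injective (f : X ⟶ Y) [EtCoh.BCCont f] (J : EtCoh.Ab X) [Injective J] {n : ℕ}
    (hn : 0 < n) : Epi ((EtCoh.push f).map (n • 𝟙 J)) :=
  epi_of_surjective _ fun U => surjective_nsmul_injective J hn ((EtCoh.bc f).obj U)

/-- the sequence `0 → J[n] → J → J → 0` -/
noncomputable abbrev torsNSeq (J : EtCoh.Ab X) (n : ℕ) : ShortComplex (EtCoh.Ab X) :=
  ShortComplex.mk (kernel.ι (n • 𝟙 J)) (n • 𝟙 J) (kernel.condition _)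

theorem torsNSeq_shortExact (J : EtCoh.Ab X) [Injective J] {n : ℕ} (hn : 0 < n) :
    (torsNSeq J n).ShortExact where
  exact := ShortComplex.exact_of_f_is_kernel _ (kernelIsKernel _)
  epi_g := epi_nsmul_injective J hn

/-- `J[n]` is acyclic for every direct image -/
theorem isRightAcyclic_torsN (f : X ⟶ Y) [EtCoh.BCCont f] (J : EtCoh.Ab X) [Injective J] {n : ℕ}
    (hn : 0 < n) : IsRightAcyclic (EtCoh.push f) (torsN J n) := by
  intro q hq
  obtain ⟨q, rfl⟩ := Nat.exists_eq_succ_of_ne_zero hq.ne'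
  haveI := push_preservesFiniteLimits f
  haveI hJ : Injective (torsNSeq J n).X₂ := inferInstanceAs (Injective J)
  cases q with
  | zero => exact (epi_map_g_iff (EtCoh.push f) (torsNSeq_shortExact J hn)).1 (epi_push_nsmul_injective f J hn)
  | succ q =>
    exact isZero_rightDerived_succ_left (EtCoh.push f) (torsNSeq_shortExact J hn) (q + 1)
      ((EtCoh.push f).isZero_rightDerived_obj_injective_succ q J)

theorem isRightAcyclic_of_retract {A B : Type*} [Category* A] [Category* B] [Abelian A] [Abelian B]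
    [EnoughInjectives A] {F : A ⥤ B} [F.Additive] {P Q : A} (i : P ⟶ Q) (r : Q ⟶ P) (h : i ≫ r = 𝟙 P)
    (hQ : IsRightAcyclic F Q) : IsRightAcyclic F P := fun q hq => by
  rw [IsZero.iff_id_eq_zero]
  calc 𝟙 _ = (F.rightDerived q).map i ≫ (F.rightDerived q).map r := by
        rw [← Functor.map_comp, h, CategoryTheory.Functor.map_id]
    _ = 0 := by rw [(hQ q hq).eq_of_tgt ((F.rightDerived q).map i) 0, zero_comp]

/-- sheaves injective among those killed by `ℓ` are acyclic for every direct image -/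
theorem isRightAcyclic_of_injKilled (f : X ⟶ Y) [EtCoh.BCCont f] {ℓ : ℕ} (hℓ : 0 < ℓ) {I : EtCoh.Ab X}
    (hI : InjKilled ℓ I) : IsRightAcyclic (EtCoh.push f) I := by
  haveI : Mono (toTorsN hI.1 (Injective.ι I)) := mono_of_mono_fac (toTorsN_ι hI.1 (Injective.ι I))
  obtain ⟨r, hr⟩ := hI.2 I hI.1 (𝟙 I) (toTorsN hI.1 (Injective.ι I)) (killedBy_torsN _ _) inferInstance
  exact isRightAcyclic_of_retract _ r hr (isRightAcyclic_torsN f (Injective.under I) hℓ)

end Groth.Agent.BCCrit13
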